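import Cfsg.Agent.Ru127.Xi_m3
import Cfsg.Agent.RuD.IdxPermG_m3
import Cfsg.Agent.Lib.NormalAbelian
import Cfsg.Agent.H5.Small
import Cfsg.Agent.H4.Bar_m3
import Cfsg.Agent.KFacts.Ru.Core
import Cfsg.Agent.FastGrp
import Cfsg.Agent.Prune
set_option linter.all false
prune_inst 0x7ff0fefbaffcbfdfffff7e7fffbddffdfdfcffffffdfffcbfffcebffffff6b8efbe5fbaf9febd8fd7ef6e2bc30f87bd3f9ffeeffeb6bd87fffff5ff45ffbff9fffffbdac71f7bc3e1ffe6ffffbf9ffce7f3fffffffffffffffffffffffffffbeffffffffffff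
open scoped Cfsg.Agent.FastGrp

-- part: H5/Ru/Fin
section
/-!
# Subspaces of singular vectors outside the 24 vectors (Rudvalis configuration; helper5)

`card_le_four`: a subgroup of `W8` whose nonzero elements are singular and not in the set of the 24 vectors has order
at most 4.
-/

set_option autoImplicit false
set_option maxRecDepth 100000

namespace Cfsg.Agent.H5.Ru.Fin

open Cfsg.Agent.RuB Cfsg.Agent.Ru127.Form Cfsg.Agent.Ru127.Inst

/-- codes of the nonzero singular vectors outside `T` -/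
def gd (n : ℕ) : Bool := (n != 0) && (qN n == 0) && !(inT n)

def gl : List ℕ := (List.range 256).filter gd

def ck : Bool := gl.all fun x => gl.all fun y => x == y || !(gd (x ^^^ y)) || gl.all fun w =>
  w == x || w == y || w == (x ^^^ y) || !(gd (x ^^^ w)) || !(gd (y ^^^ w)) || !(gd (x ^^^ y ^^^ w))

theorem ck_true : ck = true := by decide +kernel

theorem gd_code {w : W8} (hq : q8 w = 0) (hT : ¬ ∃ i, w ∈ V8 i) : gd (code w) = true := by
  rw [V_iff, not_or] at hT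
  have h1 : qN (code w) = 0 := by rw [← code_q, hq]; rfl
  have h2 : code w ≠ 0 := hT.1
  have h3 : inT (code w) = false := by simpa using hT.2
  simp [gd, h1, h2, h3]

theorem mem_gl {w : W8} (h : gd (code w) = true) : code w ∈ gl := by
  rw [gl, List.mem_filter, List.mem_range]
  exact ⟨code_lt w, h⟩

/-- three independent vectors -/
theorem no_three {x y w : W8} (hx : gd (code x) = true) (hy : gd (code y) = true) (hw : gd (code w) = true)
    (hxy : gd (code (x + y)) = true) (hxw : gd (code (x + w)) = true) (hyw : gd (code (y + w)) = true)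
    (hxyw : gd (code (x + y + w)) = true) : False := by
  have h := ck_true
  rw [ck, List.all_eq_true] at h
  have h1 := h _ (mem_gl hx)
  rw [List.all_eq_true] at h1
  have h2 := h1 _ (mem_gl hy)
  have ne : ∀ {a b : W8}, gd (code (a + b)) = true → code a ≠ code b := by
    intro a b hab he
    rw [code_add, he, Nat.xor_self] at hab
    simp [gd] at hab
  rw [Bool.or_eq_true, Bool.or_eq_true, beq_iff_eq, ← code_add, hxy] at h2
  have h3 := h2.resolve_left (by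
    rintro (h' | h')
    · exact ne hxy h'
    · simp at h')
  rw [List.all_eq_true] at h3
  have h4 := h3 _ (mem_gl hw)
  have e3 : code (x + y + w) = code (x + y) ^^^ code w := code_add _ _
  simp only [Bool.or_eq_true, beq_iff_eq, ← code_add, hxw, hyw, hxyw, Bool.not_true, Bool.false_eq_true, or_false] at h4
  rcases h4 with (h4 | h4) | h4
  · exact ne hxw h4.symm
  · exact ne hyw h4.symm
  · exact ne hxyw h4.symm

/-- **`|S| ≤ 4`** -/
theorem card_le_four (S : AddSubgroup W8) (hS : ∀ w ∈ S, w ≠ 0 → q8 w = 0 ∧ ¬ ∃ i, w ∈ V8 i) : Nat.card S ≤ 4 := by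
  classical
  by_contra hlt
  push Not at hlt
  have hfW : Finite W8 := Nat.finite_of_card_ne_zero (by rw [cardW]; norm_num)
  have hn : (S : Set W8).ncard = Nat.card S := rfl
  obtain ⟨x, hx, hx0⟩ : ∃ x ∈ (S : Set W8), x ∉ ({0} : Set W8) := by
    refine Set.exists_mem_notMem_of_ncard_lt_ncard ?_ (Set.toFinite _)
    rw [Set.ncard_singleton]; omega
  obtain ⟨y, hy, hy0⟩ : ∃ y ∈ (S : Set W8), y ∉ ({0, x} : Set W8) := by
    refine Set.exists_mem_notMem_of_ncard_lt_ncard ?_ (Set.toFinite _)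
    have := Set.ncard_insert_le (0 : W8) {x}
    rw [Set.ncard_singleton] at this
    omega
  obtain ⟨w, hw, hw0⟩ : ∃ w ∈ (S : Set W8), w ∉ ({0, x, y, x + y} : Set W8) := by
    refine Set.exists_mem_notMem_of_ncard_lt_ncard ?_ (Set.toFinite _)
    have h1 := Set.ncard_insert_le (0 : W8) {x, y, x + y}
    have h2 := Set.ncard_insert_le x {y, x + y}
    have h3 := Set.ncard_insert_le y {x + y}
    rw [Set.ncard_singleton] at h3
    omega
  simp only [Set.mem_singleton_iff, Set.mem_insert_iff, not_or] at hx0 hy0 hw0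
  have two := two_W8
  have hne : ∀ {a b : W8}, a ≠ b → a + b ≠ 0 := by
    intro a b hab h
    apply hab
    have := two b
    exact add_right_cancel (h.trans this.symm)
  have hg : ∀ w ∈ S, w ≠ 0 → gd (code w) = true := fun w hw h0 => gd_code (hS w hw h0).1 (hS w hw h0).2
  refine no_three (hg x hx hx0) (hg y hy hy0.1) (hg w hw hw0.1) (hg _ (S.add_mem hx hy) (hne (Ne.symm hy0.2)))
    (hg _ (S.add_mem hx hw) (hne (Ne.symm hw0.2.1))) (hg _ (S.add_mem hy hw) (hne (Ne.symm hw0.2.2.1)))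
    (hg _ (S.add_mem (S.add_mem hx hy) hw) (hne (Ne.symm hw0.2.2.2)))

/-! ### the good vectors of different involutions are different -/

def ckJ : Bool := gl.all fun j => (List.range 8).all fun f => (List.range 8).all fun f' =>
  f == 0 || f' == 0 || f == f' || tL.any fun u => bN u j == 0 || bN u j == f || bN u j == f'

theorem ckJ_true : ckJ = true := by decide +kernel

theorem J3_disj {f f' : K8} (hf : f ≠ 0) (hf' : f' ≠ 0) {w : W8} (h : w ∈ Cfsg.Agent.Ru127.Xi.J3 R8 f)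
    (h' : w ∈ Cfsg.Agent.Ru127.Xi.J3 R8 f') : f = f' := by
  obtain ⟨hw0, hq, hV, hu⟩ := h
  obtain ⟨-, -, -, hu'⟩ := h'
  have hck := ckJ_true
  rw [ckJ, List.all_eq_true] at hck
  have h1 := hck _ (mem_gl (gd_code hq hV))
  rw [List.all_eq_true] at h1
  have h2 := h1 _ (List.mem_range.2 f.val.2)
  rw [List.all_eq_true] at h2
  have h3 := h2 _ (List.mem_range.2 f'.val.2)
  have hz : ∀ {f : K8}, f ≠ 0 → f.val.val ≠ 0 := fun hf h0 => hf (K8_val_inj h0)
  simp only [Bool.or_eq_true, beq_iff_eq, List.any_eq_true] at h3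
  rcases h3 with ((h3 | h3) | h3) | ⟨u, hu1, hu2⟩
  · exact absurd h3 (hz hf)
  · exact absurd h3 (hz hf')
  · exact K8_val_inj h3
  · exfalso
    unfold tL at hu1
    rw [List.mem_filter, List.mem_range] at hu1
    have hT : decode u ≠ 0 ∧ ∃ i, decode u ∈ V8 i := by
      rw [T_iff, code_decode ⟨u, hu1.1⟩]; exact hu1.2
    have hb : (b8 (decode u) w).val.val = bN u (code w) := by rw [code_b, code_decode ⟨u, hu1.1⟩]
    rcases hu2 with (hu2 | hu2) | hu2
    · exact hu (decode u) (Or.inl (K8_val_inj (by rw [show R8.b (decode u) w = b8 (decode u) w from rfl, hb]; exact hu2))) hT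
    · exact hu (decode u) (Or.inr (K8_val_inj (by rw [show R8.b (decode u) w = b8 (decode u) w from rfl, hb]; exact hu2))) hT
    · exact hu' (decode u) (Or.inr (K8_val_inj (by rw [show R8.b (decode u) w = b8 (decode u) w from rfl, hb]; exact hu2))) hT

end Cfsg.Agent.H5.Ru.Fin
end

-- part: H5/Ru/Loc
section
/-!
# Elementary abelian normal subgroups of a Sylow 2-subgroup (Rudvalis configuration; helper5)

`Ctx D 𝒵 P Z z`: local data, `P` a 2-subgroup of order `2^14` in `N(Z) ∩ C(z)` with `Z(P) = ⟨z⟩`; `Inv P z U`: `U ≤ P` is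
elementary abelian, normal in `P`, `z ∈ U`.

* `Inv.noD`: `U ∩ D = ∅`; `Inv.le_cent`: `U ≤ C(Z)`, `|U Z / Z| ≤ 4`;
* `Inv.normalizer_le`: `N(U) ≤ N(Z)` or `N(U) ≤ C(z)`.
-/

set_option autoImplicit false
set_option linter.unusedSectionVars false

namespace Cfsg.Agent.H5.Ru.Loc

open Subgroup Cfsg.Agent.Ru127.Form Cfsg.Agent.Ru127.Basic Cfsg.Agent.Ru127.NorD Cfsg.Agent.Ru127.Count
  Cfsg.Agent.Ru127.Five Cfsg.Agent.Ru127.Xi Cfsg.Agent.Ru127.Inst Cfsg.Agent.RuB Cfsg.Agent.KFacts.Ru.InvA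

variable {G : Type*} [Group G]

/-- an element of `B \ A` centralised by the 2-group `P` modulo `A` -/
theorem exists_central_mod [Finite G] {P A B : Subgroup G} (hP : IsPGroup 2 P) (hBP : B ≤ P)
    (hA : P ≤ normalizer (A : Set G)) (hB : P ≤ normalizer (B : Set G)) (hAP : A ≤ P) (hne : ¬ B ≤ A) :
    ∃ d ∈ B, d ∉ A ∧ ∀ t ∈ P, t * d * t⁻¹ * d⁻¹ ∈ A := by
  have : Fact (Nat.Prime 2) := ⟨Nat.prime_two⟩
  set A' : Subgroup P := A.subgroupOf P with hA'
  have hAn : A'.Normal := (normal_subgroupOf_iff_le_normalizer hAP).2 hA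
  have hBn : (B.subgroupOf P).Normal := (normal_subgroupOf_iff_le_normalizer hBP).2 hB
  set π := QuotientGroup.mk' A' with hπ
  have hπs : Function.Surjective π := QuotientGroup.mk'_surjective A'
  have hN : ((B.subgroupOf P).map π).Normal := hBn.map π hπs
  have hnil : Group.IsNilpotent (P ⧸ A') := by
    have h1 : IsPGroup 2 (P ⧸ A') := hP.to_quotient A'
    exact h1.isNilpotent
  have hNe : (B.subgroupOf P).map π ≠ ⊥ := by
    intro h
    apply hne
    intro b hb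
    have h1 : π ⟨b, hBP hb⟩ ∈ (B.subgroupOf P).map π := ⟨⟨b, hBP hb⟩, mem_subgroupOf.2 hb, rfl⟩
    rw [h, mem_bot, hπ, QuotientGroup.mk'_apply, QuotientGroup.eq_one_iff] at h1
    exact mem_subgroupOf.1 h1
  obtain ⟨⟨y, hyN, hyc⟩, hy1⟩ := (Subgroup.ne_bot_iff_exists_ne_one).1
    (Lib.NormalAbelian.normal_inf_center_ne_bot _ hNe)
  obtain ⟨⟨d, hdP⟩, hdB, hdy⟩ := hyN
  refine ⟨d, hdB, ?_, ?_⟩
  · intro hdA
    apply hy1
    apply Subtype.ext
    show y = 1
    have hdy' : π ⟨d, hdP⟩ = y := hdy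
    rw [← hdy', hπ, QuotientGroup.mk'_apply, QuotientGroup.eq_one_iff]
    exact mem_subgroupOf.2 hdA
  · intro t ht
    have h1 := mem_center_iff.1 hyc (π ⟨t, ht⟩)
    have hdy' : π ⟨d, hdP⟩ = y := hdy
    rw [← hdy'] at h1
    have h2 : π (⟨t, ht⟩ * ⟨d, hdP⟩ * ⟨t, ht⟩⁻¹ * ⟨d, hdP⟩⁻¹) = 1 := by
      rw [map_mul, map_mul, map_mul, map_inv, map_inv, h1, mul_inv_cancel_right, mul_inv_cancel]
    rw [hπ, QuotientGroup.mk'_apply, QuotientGroup.eq_one_iff] at h2
    exact mem_subgroupOf.1 h2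

variable {D : Set G} {𝒵 : Set (Subgroup G)}

/-- the hypotheses on the 2-subgroup `P` -/
structure Ctx (D : Set G) (𝒵 : Set (Subgroup G)) (P Z : Subgroup G) (z : G) : Prop where
  L : LocalData D 𝒵 R8
  h5 : ∀ Y ∈ 𝒵, ∀ z ∈ Y, z ≠ 1 → Nat.card (Sig 𝒵 z) = 5
  P2 : IsPGroup 2 P
  hP : Nat.card P = 2 ^ 14
  hZ : Z ∈ 𝒵
  hz : z ∈ Z
  hz1 : z ≠ 1
  comm : ∀ x ∈ P, x * z = z * x
  cent : centralizer (Z : Set G) ≤ P
  nr : ∀ x ∈ P, x ∈ nor Z
  cen : ∀ a, (∀ x ∈ P, x * a = a * x) → a = 1 ∨ a = z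

/-- elementary abelian normal subgroups of `P` containing `z` -/
structure Inv (P : Subgroup G) (z : G) (U : Subgroup G) : Prop where
  le : U ≤ P
  norm : P ≤ normalizer (U : Set G)
  comm : ∀ a ∈ U, ∀ b ∈ U, a * b = b * a
  sq : ∀ a ∈ U, a * a = 1
  mem : z ∈ U

theorem conj_mem {N U : Subgroup G} (h : N ≤ normalizer (U : Set G)) {t u : G} (ht : t ∈ N) (hu : u ∈ U) :
    t * u * t⁻¹ ∈ U := (mem_normalizer_iff.1 (h ht) u).1 hu

theorem nor_le_normalizer {Y : Subgroup G} : nor Y ≤ normalizer (Y : Set G) := by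
  intro g hg
  rw [mem_normalizer_iff]
  intro x
  refine ⟨fun h => conj_mem_of_mem_nor hg h, fun h => ?_⟩
  have h1 := conj_inv_mem_of_mem_nor hg h
  have e : g⁻¹ * (g * x * g⁻¹) * g = x := by group
  rwa [e] at h1

theorem mem_nor_of_mem_normalizer {Y : Subgroup G} {g : G} (hg : g ∈ normalizer (Y : Set G)) : g ∈ nor Y := by
  rw [mem_nor]
  ext x
  rw [mem_cj, mem_normalizer_iff.1 hg]
  have e : g * (g⁻¹ * x * g) * g⁻¹ = x := by group
  rw [e]

section

variable [Finite G] {P Z U : Subgroup G} {z : G} (c : Ctx D 𝒵 P Z z)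
include c

theorem Ctx.Z_le : Z ≤ centralizer (Z : Set G) := by
  obtain ⟨π, ζ, cc⟩ := c.L.coord Z c.hZ
  exact cc.le_cent

theorem Ctx.card_cent : Nat.card (centralizer (Z : Set G)) = 2 ^ 11 := by
  obtain ⟨π, ζ, cc⟩ := c.L.coord Z c.hZ
  exact Cfsg.Agent.Ru127.Basic.card_cent cc

theorem Ctx.zD : z ∉ D := notD_mem c.L c.hZ c.hz

/-- `P` fixes only `Z` in `Σ(z)` -/
theorem Ctx.eq_of_nor {Y : Subgroup G} (hY : Y ∈ 𝒵) (hzY : z ∈ Y) (h : ∀ t ∈ P, t ∈ nor Y) : Y = Z := by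
  obtain ⟨d0, hd0, hd0Z⟩ := exists_D c.L c.hZ
  exact fix_unique c.L hd0 c.hz1 hY hzY c.hZ c.hz (h _ (c.cent hd0Z)) (cent_le_nor Z hd0Z)

/-- `[P, d] ≤ Z` is impossible for `d ∈ D ∩ C(Z)` -/
theorem Ctx.not_central {d : G} (hd : d ∈ D) (hdc : d ∈ centralizer (Z : Set G))
    (h : ∀ t ∈ P, t * d * t⁻¹ * d⁻¹ ∈ Z) : False := by
  obtain ⟨π, ζ, cc⟩ := c.L.coord Z c.hZ
  have hle : P ≤ centralizer (Z : Set G) := by
    intro t ht
    obtain ⟨f, hf⟩ := (cc.ζ_range _).1 (h t ht)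
    have hπd : π d ≠ 0 := ((cc.D_iff d hdc).1 hd).1
    obtain ⟨w, hw⟩ := R8.q1 (π d) hπd f
    obtain ⟨x, hx, rfl⟩ := cc.π_surj w
    -- `d⁻¹ x⁻¹ d x = ζ f = t d t⁻¹ d⁻¹`
    have h1 := cc.comm d hdc x hx
    rw [hw, hf] at h1
    have hd2 : d⁻¹ = d := inv_eq_self c.L hd
    have hz' : t * d * t⁻¹ * d⁻¹ ∈ Z := h t ht
    have hcd : d * (t * d * t⁻¹ * d⁻¹) = (t * d * t⁻¹ * d⁻¹) * d :=
      ((mem_centralizer_iff.1 hdc) _ hz').symm
    have h2 : x⁻¹ * d * x = t * d * t⁻¹ := by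
      calc x⁻¹ * d * x = d * (d⁻¹ * x⁻¹ * d * x) := by group
        _ = d * (t * d * t⁻¹ * d⁻¹) := by rw [h1]
        _ = t * d * t⁻¹ := by rw [hcd]; group
    have h3 : Commute (x * t) d := by
      show x * t * d = d * (x * t)
      calc x * t * d = x * (t * d * t⁻¹) * t := by group
        _ = x * (x⁻¹ * d * x) * t := by rw [h2]
        _ = d * (x * t) := by group
    have h4 : Commute (x * t) z := c.comm _ (mul_mem (c.cent hx) ht)
    have h5 := cent_of_commute c.L hd c.hz1 c.hZ c.hz hdc h3 h4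
    have h6 := mul_mem (inv_mem hx) h5
    rwa [inv_mul_cancel_left] at h6
  have h1 := Nat.card_le_card_of_injective _ (inclusion_injective hle)
  rw [c.card_cent, c.hP] at h1
  norm_num at h1

/-- **`U ∩ D = ∅`** -/
theorem Inv.noD (hU : Inv P z U) : ∀ d ∈ U, d ∉ D := by
  intro d hdU hd
  obtain ⟨Y, hY, hzY, hdY, hcent⟩ := exists_unique' c.L hd c.hz1 (sq_mem c.L c.hZ c.hz) c.zD (c.comm d (hU.le hdU))
  have hUY : ∀ u ∈ U, u ∈ centralizer (Y : Set G) := fun u hu =>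
    hcent u (hU.comm u hu d hdU) (c.comm u (hU.le hu))
  have hYZ : Y = Z := by
    refine c.eq_of_nor hY hzY fun t ht => ?_
    have h1 : t * d * t⁻¹ ∈ U := conj_mem hU.norm ht hdU
    have h2 : t * d * t⁻¹ ∈ centralizer ((cj t Y : Subgroup G) : Set G) := by
      rw [mem_centralizer_iff]
      intro y hy
      have h3 := mem_centralizer_iff.1 hdY _ (mem_cj.1 hy)
      calc y * (t * d * t⁻¹) = t * ((t⁻¹ * y * t) * d) * t⁻¹ := by group
        _ = t * (d * (t⁻¹ * y * t)) * t⁻¹ := by rw [h3]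
        _ = t * d * t⁻¹ * y := by group
    exact (unique c.L (c.L.D_conj _ hd t) c.hz1 hY (c.L.Z_conj _ hY t) hzY
      (mem_cj_of_commute (c.comm t ht) hzY) (hUY _ h1) h2).symm
  subst hYZ
  -- a vector fixed modulo `Z`
  have hne : ¬ U ≤ Y := fun h => notD_mem c.L c.hZ (h hdU) hd
  obtain ⟨e, heU, heZ, he⟩ := exists_central_mod c.P2 hU.le (fun t ht => nor_le_normalizer (c.nr t ht)) hU.norm
    (c.Z_le.trans c.cent) hne
  have heD : e ∈ D := by
    by_contra h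
    obtain ⟨π, ζ, cc⟩ := c.L.coord Y c.hZ
    exact heZ (mem_Y_of_commute cc hd hdY (hUY e heU) (hU.sq e heU) h (hU.comm d hdU e heU))
  exact c.not_central heD (hUY e heU) he

variable {π : G → W8} {ζ : K8 → G} (cc : IsCoord D Z R8 π ζ)

omit [Finite G] c in
/-- the image of `U ∩ C(Z)` in `C(Z)/Z` -/
def im (cc : IsCoord D Z R8 π ζ) (U : Subgroup G) : AddSubgroup W8 where
  carrier := {w | ∃ x ∈ U, x ∈ centralizer (Z : Set G) ∧ π x = w}
  add_mem' := by
    rintro _ _ ⟨x, hx, hxc, rfl⟩ ⟨y, hy, hyc, rfl⟩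
    exact ⟨x * y, mul_mem hx hy, mul_mem hxc hyc, cc.π_mul x hxc y hyc⟩
  zero_mem' := ⟨1, one_mem _, one_mem _, π_one cc⟩
  neg_mem' := by
    rintro _ ⟨x, hx, hxc, rfl⟩
    refine ⟨x, hx, hxc, ?_⟩
    rw [eq_neg_iff_add_eq_zero]
    exact R8.twoW _

theorem Inv.card_im_le (hU : Inv P z U) : Nat.card (im cc U) ≤ 4 := by
  refine Fin.card_le_four _ ?_
  rintro _ ⟨x, hx, hxc, rfl⟩ h0
  refine ⟨q_of_sq cc hxc (hU.sq x hx), fun h => ?_⟩
  exact hU.noD c x hx ((cc.D_iff x hxc).2 ⟨h0, h⟩)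

/-- **`U ≤ C(Z)`** -/
theorem Inv.le_cent (hU : Inv P z U) : U ≤ centralizer (Z : Set G) := by
  obtain ⟨π, ζ, cc⟩ := c.L.coord Z c.hZ
  intro u hu
  by_contra huZ
  have hun : u ∈ nor Z := c.nr u (hU.le hu)
  obtain ⟨A, hA⟩ := exists_induced cc hun
  let A1 : W8 →+ W8 := A + AddMonoidHom.id W8
  have hA1 : ∀ w, A1 w = A w + w := fun w => rfl
  have hFW : Finite W8 := Nat.finite_of_card_ne_zero (by rw [cardW]; norm_num)
  have hrange : A1.range ≤ im cc U := by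
    rintro _ ⟨w, rfl⟩
    obtain ⟨x, hx, rfl⟩ := cc.π_surj w
    have h1 : u * x * u⁻¹ ∈ centralizer (Z : Set G) := conj_mem_cent hun hx
    refine ⟨u * x * u⁻¹ * x⁻¹, ?_, mul_mem h1 (inv_mem hx), ?_⟩
    · have h2 : x * u⁻¹ * x⁻¹ ∈ U := conj_mem hU.norm (c.cent hx) (inv_mem hu)
      have e : u * x * u⁻¹ * x⁻¹ = u * (x * u⁻¹ * x⁻¹) := by group
      rw [e]
      exact mul_mem hu h2
    · rw [cc.π_mul _ h1 _ (inv_mem hx), π_inv cc hx, hA x hx, hA1]
  let Su : AddSubgroup K8 :=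
    { carrier := {f | u * ζ f * u⁻¹ = ζ f}
      add_mem' := by
        intro a b ha hb
        show u * ζ (a + b) * u⁻¹ = ζ (a + b)
        have ha' : u * ζ a * u⁻¹ = ζ a := ha
        have hb' : u * ζ b * u⁻¹ = ζ b := hb
        rw [cc.ζ_add]
        calc u * (ζ a * ζ b) * u⁻¹ = (u * ζ a * u⁻¹) * (u * ζ b * u⁻¹) := by group
          _ = ζ a * ζ b := by rw [ha', hb']
      zero_mem' := by
        show u * ζ 0 * u⁻¹ = ζ 0
        rw [ζ_zero cc]; group
      neg_mem' := by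
        intro a ha
        have : -a = a := by rw [neg_eq_iff_add_eq_zero]; exact R8.twoF a
        rw [this]; exact ha }
  have hSu : Su ≠ ⊤ := by
    intro h
    apply huZ
    rw [mem_centralizer_iff]
    intro y hy
    obtain ⟨f, rfl⟩ := (cc.ζ_range y).1 hy
    have h1 : f ∈ Su := by rw [h]; trivial
    have h2 : u * ζ f * u⁻¹ = ζ f := h1
    calc ζ f * u = (u * ζ f * u⁻¹) * u := by rw [h2]
      _ = u * ζ f := by group
  have hker : Nat.card A1.ker ≤ 16 := by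
    refine Cfsg.Agent.Ru127.Iso.card_le_16 R8 Su hSu A1.ker ?_
    intro w hw
    obtain ⟨x, hx, rfl⟩ := cc.π_surj w
    rw [AddMonoidHom.mem_ker, hA1, ← hA x hx] at hw
    have h1 : u * x * u⁻¹ ∈ centralizer (Z : Set G) := conj_mem_cent hun hx
    have hy : x⁻¹ * (u * x * u⁻¹) ∈ Z := by
      rw [← cc.π_ker _ (mul_mem (inv_mem hx) h1), cc.π_mul _ (inv_mem hx) _ h1, π_inv cc hx, add_comm]
      exact hw
    set y := x⁻¹ * (u * x * u⁻¹) with hydef
    have hxy : u * x * u⁻¹ = x * y := by rw [hydef]; group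
    have hyx : y * x = x * y := (mem_centralizer_iff.1 hx) y hy
    have hyy : y * y = 1 := sq_mem c.L c.hZ hy
    show u * ζ (R8.q (π x)) * u⁻¹ = ζ (R8.q (π x))
    rw [← cc.sq x hx]
    calc u * (x * x) * u⁻¹ = (u * x * u⁻¹) * (u * x * u⁻¹) := by group
      _ = x * y * (x * y) := by rw [hxy]
      _ = x * (y * x) * y := by group
      _ = x * x * (y * y) := by rw [hyx]; group
      _ = x * x := by rw [hyy, mul_one]
  have h1 : Nat.card A1.ker * Nat.card A1.range = 256 := by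
    rw [← AddSubgroup.index_ker, AddSubgroup.card_mul_index, cardW]
  have h2 : Nat.card A1.range ≤ 4 :=
    (Nat.card_le_card_of_injective _ (AddSubgroup.inclusion_injective hrange)).trans (hU.card_im_le c cc)
  have h3 := Nat.mul_le_mul hker h2
  omega

omit c in
/-- `|V| = |π(V)| |V ∩ Z|` for `V ≤ C(Z)` -/
theorem card_im {V : Subgroup G} (hV : V ≤ centralizer (Z : Set G)) :
    Nat.card V = Nat.card (im cc V) * Nat.card (V ⊓ Z : Subgroup G) := by
  let φ : V →* Multiplicative W8 :=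
    { toFun := fun x => Multiplicative.ofAdd (π x)
      map_one' := by
        show Multiplicative.ofAdd (π 1) = 1
        rw [π_one cc]; rfl
      map_mul' := fun x y => by
        show Multiplicative.ofAdd (π (x * y)) = _
        rw [cc.π_mul x (hV x.2) y (hV y.2)]; rfl }
  have h1 := φ.ker.card_mul_index
  rw [Subgroup.index_ker] at h1
  have h2 : Nat.card φ.range = Nat.card (im cc V) := by
    apply Nat.card_congr
    refine Equiv.ofBijective (fun w => ⟨Multiplicative.toAdd w.1, ?_⟩) ⟨?_, ?_⟩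
    · obtain ⟨_, x, rfl⟩ := w
      exact ⟨x, x.2, hV x.2, rfl⟩
    · intro w w' h
      have h' := Subtype.mk.inj h
      exact Subtype.ext h'
    · rintro ⟨_, x, hx, hxc, rfl⟩
      exact ⟨⟨_, ⟨x, hx⟩, rfl⟩, rfl⟩
  have h3 : Nat.card φ.ker = Nat.card (V ⊓ Z : Subgroup G) := by
    apply Nat.card_congr
    refine Equiv.ofBijective (fun x => ⟨(x.1 : G), x.1.2, ?_⟩) ⟨?_, ?_⟩
    · exact (cc.π_ker _ (hV x.1.2)).1 (MonoidHom.mem_ker.1 x.2)
    · intro x y h
      have h' := Subtype.mk.inj h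
      exact Subtype.ext (Subtype.ext h')
    · rintro ⟨x, hx, hxZ⟩
      exact ⟨⟨⟨x, hx⟩, MonoidHom.mem_ker.2 ((cc.π_ker _ (hV hx)).2 hxZ)⟩, rfl⟩
  rw [← h1, h2, h3, mul_comm]

/-- `U ≤ Z` or `Z ≤ U` -/
theorem Inv.cases (hU : Inv P z U) : U ≤ Z ∨ Z ≤ U := by
  by_cases h : U ≤ Z
  · exact Or.inl h
  right
  obtain ⟨π, ζ, cc⟩ := c.L.coord Z c.hZ
  obtain ⟨u, hu, huZ⟩ := SetLike.not_le_iff_exists.1 h
  have huc := hU.le_cent c hu
  have hπ : π u ≠ 0 := fun h0 => huZ ((cc.π_ker u huc).1 h0)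
  intro y hy
  obtain ⟨f, rfl⟩ := (cc.ζ_range y).1 hy
  obtain ⟨w, hw⟩ := R8.q1 (π u) hπ f
  obtain ⟨x, hx, rfl⟩ := cc.π_surj w
  rw [← hw, ← cc.comm u huc x hx]
  have h1 : x⁻¹ * u * x⁻¹⁻¹ ∈ U := conj_mem hU.norm (inv_mem (c.cent hx)) hu
  have e : u⁻¹ * x⁻¹ * u * x = u⁻¹ * (x⁻¹ * u * x⁻¹⁻¹) := by group
  rw [e]
  exact mul_mem (inv_mem hu) h1

omit [Finite G] in
theorem Inv.ne_one_of (hU : Inv P z U) {g : G} (hg : g ∈ normalizer (U : Set G)) : g * z * g⁻¹ ∈ U ∧ g * z * g⁻¹ ≠ 1 := by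
  refine ⟨(mem_normalizer_iff.1 hg z).1 hU.mem, fun h => c.hz1 ?_⟩
  calc z = g⁻¹ * (g * z * g⁻¹) * g := by group
    _ = 1 := by rw [h]; group

/-- the case `U ≤ Z` -/
theorem Inv.normalizer_le_of_le (hU : Inv P z U) (h : U ≤ Z) :
    normalizer (U : Set G) ≤ nor Z ∨ normalizer (U : Set G) ≤ centralizer {z} := by
  by_cases hj : ∀ j ∈ U, j = 1 ∨ j = z
  · right
    intro g hg
    obtain ⟨h1, h2⟩ := hU.ne_one_of c hg
    rw [mem_centralizer_singleton_iff]
    exact mul_inv_eq_iff_eq_mul.1 ((hj _ h1).resolve_left h2)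
  · left
    push Not at hj
    obtain ⟨j, hj, hj1, hjz⟩ := hj
    intro g hg
    have h1 : ∀ u ∈ U, u ∈ cj g Z := by
      intro u hu
      rw [mem_cj]
      apply h
      have h2 := (mem_normalizer_iff.1 (inv_mem hg) u).1 hu
      rwa [inv_inv] at h2
    rw [mem_nor]
    exact eq_of_mem c.L c.hz1 (c.L.Z_conj _ c.hZ g) (h1 z hU.mem) c.hZ c.hz (h1 j hj) (h hj) hj1 hjz

omit c in
/-- `u ~ u y` in `C(a)` for `u ∈ b`, `y ∈ a`, `a ≠ b` in `Σ(z)` -/
theorem conj_mul (L : LocalData D 𝒵 R8) (hz1 : z ≠ 1) {a b : Subgroup G} (ha : a ∈ 𝒵) (hza : z ∈ a) (hb : b ∈ 𝒵)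
    (hzb : z ∈ b) (hab : b ≠ a) {u y : G} (hu : u ∈ b) (hu1 : u ≠ 1) (huz : u ≠ z) (hy : y ∈ a) :
    ∃ g, Commute g z ∧ g * u * g⁻¹ = u * y := by
  obtain ⟨πa, ζa, ca⟩ := L.coord a ha
  have huc := le_cent_of_ne L hz1 hb hzb ha hza hab hu
  have hπ : πa u ≠ 0 := by
    intro h
    rcases inf_eq L hz1 hb hzb ha hza hab hu ((ca.π_ker u huc).1 h) with h | h
    · exact hu1 h
    · exact huz h
  obtain ⟨f, rfl⟩ := (ca.ζ_range y).1 hy
  obtain ⟨w, hw⟩ := R8.q1 (πa u) hπ f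
  obtain ⟨x, hx, rfl⟩ := ca.π_surj w
  have h1 := ca.comm u huc x hx
  rw [hw] at h1
  refine ⟨x⁻¹, ?_, ?_⟩
  · exact ((mem_centralizer_iff.1 (inv_mem hx)) z hza).symm
  · rw [← h1]; group

omit c in
/-- `C(z)` is transitive on the union of the members of `Σ(z)` minus `⟨z⟩` -/
theorem trans_pts (L : LocalData D 𝒵 R8) (hz1 : z ≠ 1) (h5 : Nat.card (Sig 𝒵 z) = 5) {b b' : Subgroup G} (hb : b ∈ 𝒵)
    (hzb : z ∈ b) (hb' : b' ∈ 𝒵) (hzb' : z ∈ b') {u u' : G} (hu : u ∈ b) (hu1 : u ≠ 1) (huz : u ≠ z)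
    (hu' : u' ∈ b') (hu1' : u' ≠ 1) (huz' : u' ≠ z) : ∃ g, Commute g z ∧ g * u * g⁻¹ = u' := by
  classical
  -- a third member
  obtain ⟨b2, hb2, hzb2, hn, hn'⟩ : ∃ b2 ∈ 𝒵, z ∈ b2 ∧ b2 ≠ b ∧ b2 ≠ b' := by
    by_contra hcon
    push Not at hcon
    have hsub : ∀ Y : Sig 𝒵 z, Y = ⟨b, hb, hzb⟩ ∨ Y = ⟨b', hb', hzb'⟩ := by
      rintro ⟨Y, hY, hzY⟩
      by_cases h : Y = b
      · left; exact Subtype.ext h
      · right; exact Subtype.ext (hcon Y hY hzY h)
    have h1 : Nat.card (Sig 𝒵 z) ≤ Nat.card (Fin 2) := by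
      refine Nat.card_le_card_of_surjective (fun i : Fin 2 => if i = 0 then (⟨b, hb, hzb⟩ : Sig 𝒵 z) else
        ⟨b', hb', hzb'⟩) ?_
      intro Y
      rcases hsub Y with h | h
      · exact ⟨0, by simp [h]⟩
      · exact ⟨1, by simp [h]⟩
    rw [h5, Nat.card_eq_fintype_card, Fintype.card_fin] at h1
    omega
  obtain ⟨v, hv, hvn⟩ := exists_notMem (card_mem L hb2) (s := {1, z})
    ((Finset.card_insert_le _ _).trans (by simp))
  simp only [Finset.mem_insert, Finset.mem_singleton, not_or] at hvn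
  have key : ∀ {b : Subgroup G} (_ : b ∈ 𝒵) (_ : z ∈ b) (_ : b2 ≠ b) {u : G} (_ : u ∈ b) (_ : u ≠ 1) (_ : u ≠ z),
      ∃ g, Commute g z ∧ g * u * g⁻¹ = v := by
    intro b hb hzb hn u hu hu1 huz
    obtain ⟨a, ha, hza, hua⟩ := exists_mul L hz1 h5 hb hzb hb2 hzb2 (inv_mem hu) hv
    have hba : b ≠ a := by
      rintro rfl
      have h1 : v ∈ b := by
        have h2 := mul_mem hu hua
        rwa [mul_inv_cancel_left] at h2
      exact hn (eq_of_mem L hz1 hb2 hzb2 hb hzb hv h1 hvn.1 hvn.2)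
    obtain ⟨g, hg, h⟩ := conj_mul L hz1 ha hza hb hzb hba hu hu1 huz hua
    exact ⟨g, hg, by rw [h, mul_inv_cancel_left]⟩
  obtain ⟨g, hg, hgu⟩ := key hb hzb hn hu hu1 huz
  obtain ⟨g', hg', hgu'⟩ := key hb' hzb' hn' hu' hu1' huz'
  refine ⟨g'⁻¹ * g, ?_, ?_⟩
  · exact (hg'.inv_left).mul_left hg
  · calc g'⁻¹ * g * u * (g'⁻¹ * g)⁻¹ = g'⁻¹ * (g * u * g⁻¹) * g' := by group
      _ = g'⁻¹ * (g' * u' * g'⁻¹) * g' := by rw [hgu, hgu']
      _ = u' := by group

/-- the order of `U ≥ Z` -/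
theorem Inv.card_le (hU : Inv P z U) (h : Z ≤ U) : Nat.card U = Nat.card (im cc U) * 8 := by
  rw [card_im cc (hU.le_cent c), inf_eq_right.2 h, card_mem c.L c.hZ]

/-- the case of a conjugate of `Z` different from `Z` in `U` -/
theorem Inv.of_ne (hU : Inv P z U) (h : Z ≤ U) {Y : Subgroup G} (hY : Y ∈ 𝒵) (hYU : Y ≤ U) (hne : Y ≠ Z) :
    Nat.card U = 32 ∧ (∀ u ∈ U, ∃ b ∈ 𝒵, z ∈ b ∧ u ∈ b) ∧ (∀ b ∈ 𝒵, z ∈ b → b ≤ U) := by
  obtain ⟨π, ζ, cc⟩ := c.L.coord Z c.hZ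
  have hFW : Finite W8 := Nat.finite_of_card_ne_zero (by rw [cardW]; norm_num)
  have hUc := hU.le_cent c
  have hYc : Y ≤ centralizer (Z : Set G) := hYU.trans hUc
  have h4 := hU.card_im_le c cc
  have hYe := card_im cc hYc
  rw [card_mem c.L hY] at hYe
  have himle : im cc Y ≤ im cc U := by
    rintro _ ⟨x, hx, hxc, rfl⟩
    exact ⟨x, hYU hx, hxc, rfl⟩
  have hYU4 : Nat.card (im cc Y) ≤ Nat.card (im cc U) :=
    Nat.card_le_card_of_injective _ (AddSubgroup.inclusion_injective himle)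
  -- an element of `Y ∩ Z`
  obtain ⟨y0, hy0Y, hy0Z, hy01⟩ : ∃ y0 ∈ Y, y0 ∈ Z ∧ y0 ≠ 1 := by
    by_contra hcon
    push Not at hcon
    have h1 : (Y ⊓ Z : Subgroup G) = ⊥ := by
      rw [eq_bot_iff]
      intro x hx
      exact mem_bot.2 (hcon x hx.1 hx.2)
    rw [h1, card_bot, mul_one] at hYe
    omega
  have hinf2 : Nat.card (Y ⊓ Z : Subgroup G) ≤ 2 := by
    have h1 : ((Y ⊓ Z : Subgroup G) : Set G) ⊆ {1, y0} := by
      intro x hx
      exact inf_eq c.L hy01 hY hy0Y c.hZ hy0Z hne hx.1 hx.2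
    have h2 := Set.ncard_le_ncard h1 (Set.toFinite _)
    have h3 := Set.ncard_insert_le (1 : G) {y0}
    rw [Set.ncard_singleton] at h3
    have h5 : Nat.card (Y ⊓ Z : Subgroup G) = ((Y ⊓ Z : Subgroup G) : Set G).ncard := rfl
    omega
  have himY : Nat.card (im cc Y) = 4 := by
    have h1 : Nat.card (im cc Y) * Nat.card (Y ⊓ Z : Subgroup G) ≤ Nat.card (im cc Y) * 2 :=
      Nat.mul_le_mul_left _ hinf2
    omega
  have himU : Nat.card (im cc U) = 4 := by omega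
  have hYeq : im cc Y = im cc U := AddSubgroup.eq_of_le_of_card_ge himle (by omega)
  -- the form of the vectors
  obtain ⟨f, hf⟩ := (cc.ζ_range y0).1 hy0Z
  have hf0 : f ≠ 0 := by
    rintro rfl
    rw [ζ_zero cc] at hf
    exact hy01 hf.symm
  have hJY : ∀ w ∈ im cc U, w ≠ 0 → w ∈ J3 R8 f := by
    intro w hw hw0
    rw [← hYeq] at hw
    obtain ⟨j, hj, hjc, rfl⟩ := hw
    refine mem_J3 c.L hy01 hY hy0Y c.hZ hy0Z hne cc hf hj ?_ ?_
    · rintro rfl; exact hw0 (π_one cc)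
    · rintro rfl; exact hw0 (π_Y cc hy0Z)
  -- `y0 = z`
  have hy0z : y0 = z := by
    have hne' : ¬ U ≤ Z := fun h' => hne (eq_of_le c.L hY c.hZ (hYU.trans h'))
    obtain ⟨d, hdU, hdZ, hd⟩ := exists_central_mod c.P2 hU.le (fun t ht => nor_le_normalizer (c.nr t ht)) hU.norm
      (c.Z_le.trans c.cent) hne'
    have hdc := hUc hdU
    have hd0 : π d ≠ 0 := fun h0 => hdZ ((cc.π_ker d hdc).1 h0)
    have hdJ := hJY (π d) ⟨d, hdU, hdc, rfl⟩ hd0
    obtain ⟨b, hb, hy0b, hbZ, hdb⟩ := exists_of_J3 c.L hy01 (c.h5 Z c.hZ y0 hy0Z hy01) c.hZ hy0Z cc hf hdc hdJ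
    refine (c.cen y0 ?_).resolve_left hy01
    intro t ht
    have htn := c.nr t ht
    have h1 : t * y0 * t⁻¹ ∈ Z := conj_mem_of_mem_nor htn hy0Z
    have h11 : t * y0 * t⁻¹ ≠ 1 := by
      intro h'
      apply hy01
      calc y0 = t⁻¹ * (t * y0 * t⁻¹) * t := by group
        _ = 1 := by rw [h']; group
    obtain ⟨f1, hf1⟩ := (cc.ζ_range _).1 h1
    have hf10 : f1 ≠ 0 := by
      rintro rfl
      rw [ζ_zero cc] at hf1
      exact h11 hf1.symm
    have hcjb : cj t b ∈ 𝒵 := c.L.Z_conj _ hb t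
    have hmem : ∀ x ∈ b, t * x * t⁻¹ ∈ cj t b := by
      intro x hx
      rw [mem_cj]
      have e : t⁻¹ * (t * x * t⁻¹) * t = x := by group
      rwa [e]
    have hcne : cj t b ≠ Z := by
      intro h'
      apply hbZ
      have h2 := congrArg (cj t⁻¹) h'
      rw [cj_inv_cj] at h2
      rw [h2, mem_nor.1 ((nor Z).inv_mem htn)]
    have hdt : t * d * t⁻¹ ∈ U := conj_mem hU.norm ht hdU
    have hπt : π (t * d * t⁻¹) = π d := by
      have e : t * d * t⁻¹ = (t * d * t⁻¹ * d⁻¹) * d := by group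
      rw [e, cc.π_mul _ (c.Z_le (hd t ht)) _ hdc, π_Y cc (hd t ht), zero_add]
    have hJ1 : π (t * d * t⁻¹) ∈ J3 R8 f1 := by
      refine mem_J3 c.L h11 hcjb (hmem _ hy0b) c.hZ h1 hcne cc hf1 (hmem _ hdb) ?_ ?_
      · intro h'
        rw [h', π_one cc] at hπt
        exact hd0 hπt.symm
      · intro h'
        rw [h', π_Y cc h1] at hπt
        exact hd0 hπt.symm
    rw [hπt] at hJ1
    have hff := Fin.J3_disj hf0 hf10 hdJ hJ1
    rw [← hff, hf] at hf1
    calc t * y0 = (t * y0 * t⁻¹) * t := by group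
      _ = y0 * t := by rw [← hf1]
  subst hy0z
  have hJeq : J3 R8 f = (im cc U : Set W8) \ {0} := by
    symm
    refine Set.eq_of_subset_of_ncard_le ?_ ?_ (Set.toFinite _)
    · intro w hw
      exact hJY w hw.1 hw.2
    · rw [Set.ncard_sdiff_singleton_of_mem (im cc U).zero_mem]
      have h1 : ((im cc U : AddSubgroup W8) : Set W8).ncard = Nat.card (im cc U) := rfl
      have h2 : Nat.card (J3 R8 f) ≤ 3 := R8.q2 f hf0
      have h3 : (J3 R8 f).ncard = Nat.card (J3 R8 f) := rfl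
      omega
  have h5 := c.h5 Z c.hZ y0 hy0Z hy01
  refine ⟨?_, ?_, ?_⟩
  · rw [hU.card_le c cc h, himU]
  · intro u hu
    by_cases hu0 : π u = 0
    · exact ⟨Z, c.hZ, hy0Z, (cc.π_ker u (hUc hu)).1 hu0⟩
    · obtain ⟨b, hb, hzb, -, hub⟩ := exists_of_J3 c.L hy01 h5 c.hZ hy0Z cc hf (hUc hu)
        (hJY (π u) ⟨u, hu, hUc hu, rfl⟩ hu0)
      exact ⟨b, hb, hzb, hub⟩
  · intro b hb hzb
    by_cases hbZ : b = Z
    · rw [hbZ]; exact h
    intro j hj
    by_cases hj1 : j = 1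
    · rw [hj1]; exact one_mem _
    by_cases hjz : j = y0
    · rw [hjz]; exact h hy0Z
    have hjc := le_cent_of_ne c.L hy01 hb hzb c.hZ hy0Z hbZ hj
    have h1 : π j ∈ J3 R8 f := mem_J3 c.L hy01 hb hzb c.hZ hy0Z hbZ cc hf hj hj1 hjz
    rw [hJeq] at h1
    obtain ⟨u, hu, huc, he⟩ := h1.1
    have h2 : u⁻¹ * j ∈ Z := by
      rw [← cc.π_ker _ (mul_mem (inv_mem huc) hjc), cc.π_mul _ (inv_mem huc) _ hjc, π_inv cc huc, he]
      exact R8.twoW _
    have h3 := mul_mem hu (h h2)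
    rwa [mul_inv_cancel_left] at h3

/-- **`N(U) ≤ N(Z)` or `N(U) ≤ C(z)`** -/
theorem Inv.normalizer_le (h31 : ¬ 31 ∣ Nat.card G) (hU : Inv P z U) :
    normalizer (U : Set G) ≤ nor Z ∨ normalizer (U : Set G) ≤ centralizer {z} := by
  rcases hU.cases c with h | h
  · exact hU.normalizer_le_of_le c h
  by_cases hall : ∀ g ∈ normalizer (U : Set G), cj g Z = Z
  · exact Or.inl hall
  right
  push Not at hall
  obtain ⟨g0, hg0, hgne⟩ := hall
  have hcjU : cj g0 Z ≤ U := by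
    intro x hx
    rw [mem_cj] at hx
    have h1 := (mem_normalizer_iff.1 hg0 _).1 (h hx)
    have e : g0 * (g0⁻¹ * x * g0) * g0⁻¹ = x := by group
    rwa [e] at h1
  obtain ⟨hcard, hall, hle⟩ := hU.of_ne c h (c.L.Z_conj _ c.hZ g0) hcjU hgne
  have h5 := c.h5 Z c.hZ z c.hz c.hz1
  by_contra hcon
  obtain ⟨n, hn, hnz⟩ := SetLike.not_le_iff_exists.1 hcon
  -- `C(z) ≤ N(U)`
  have hCN : ∀ g, Commute g z → g ∈ normalizer (U : Set G) := by
    have key : ∀ g, Commute g z → ∀ u ∈ U, g * u * g⁻¹ ∈ U := by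
      intro g hg u hu
      obtain ⟨b, hb, hzb, hub⟩ := hall u hu
      refine hle _ (c.L.Z_conj _ hb g) (mem_cj_of_commute hg hzb) ?_
      rw [mem_cj]
      have e : g⁻¹ * (g * u * g⁻¹) * g = u := by group
      rwa [e]
    intro g hg
    rw [mem_normalizer_iff]
    intro u
    refine ⟨key g hg u, fun hu => ?_⟩
    have h1 := key g⁻¹ (hg.inv_left) _ hu
    have e : g⁻¹ * (g * u * g⁻¹) * g⁻¹⁻¹ = u := by group
    rwa [e] at h1
  obtain ⟨hm, hm1⟩ := hU.ne_one_of c hn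
  have hmz : n * z * n⁻¹ ≠ z := by
    intro h'
    apply hnz
    rw [mem_centralizer_singleton_iff]
    exact mul_inv_eq_iff_eq_mul.1 h'
  obtain ⟨b, hb, hzb, hmb⟩ := hall _ hm
  -- the orbit of `z`
  have horb := card_conj_mul (normalizer (U : Set G)) z
  have h31' : Nat.card {y : G // ∃ h ∈ normalizer (U : Set G), h * z * h⁻¹ = y} = 31 := by
    have h1 : Nat.card {y : G // ∃ h ∈ normalizer (U : Set G), h * z * h⁻¹ = y} =
        ((U : Set G) \ {1}).ncard := by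
      apply Nat.card_congr
      refine Equiv.subtypeEquivRight (fun y => ?_)
      constructor
      · rintro ⟨g, hg, rfl⟩
        exact ⟨(hU.ne_one_of c hg).1, (hU.ne_one_of c hg).2⟩
      · rintro ⟨hy, hy1⟩
        by_cases hyz : y = z
        · exact ⟨1, one_mem _, by rw [hyz]; group⟩
        · obtain ⟨b', hb', hzb', hyb'⟩ := hall y hy
          obtain ⟨g, hg, hgy⟩ := trans_pts c.L c.hz1 h5 hb hzb hb' hzb' hmb hm1 hmz hyb' hy1 hyz
          refine ⟨g * n, mul_mem (hCN g hg) hn, ?_⟩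
          rw [← hgy]; group
    rw [h1, Set.ncard_sdiff_singleton_of_mem (one_mem U)]
    have h2 : (U : Set G).ncard = Nat.card U := rfl
    omega
  rw [h31'] at horb
  exact h31 ((Dvd.intro _ horb).trans (card_subgroup_dvd_card _))

end

end Cfsg.Agent.H5.Ru.Loc
end

-- part: H5/Ru/Over
section
/-!
# The 2-local overgroups of a Sylow 2-subgroup and `ℒ(G, T)` (Rudvalis configuration; helper5)

* `exists_inv`: `T ≤ H`, `O₂(H) ≠ 1`: `U = Ω₁(Z(O₂(H)))` is a normal elementary abelian subgroup of `T` containing `z`;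
* `overgroup`: `H ≤ N(Z)` or `H ≤ C(z)`;
* `row_nor`, `row_cent`: the members of `ℒ(G, T)`.
-/

set_option autoImplicit false
set_option linter.unusedSectionVars false

namespace Cfsg.Agent.H5.Ru.Over

open Subgroup Cfsg Cfsg.Agent.Ru127.Form Cfsg.Agent.Ru127.Basic Cfsg.Agent.Ru127.NorD Cfsg.Agent.Ru127.Count
  Cfsg.Agent.Ru127.Five Cfsg.Agent.Ru127.Xi Cfsg.Agent.Ru127.Inst Cfsg.Agent.RuB Cfsg.Agent.KFacts.Ru.InvA
  Cfsg.Agent.QTUniq.Local Cfsg.Agent.H5.Ru.Loc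

variable {G : Type*} [Group G] [Finite G] {D : Set G} {𝒵 : Set (Subgroup G)} {T : Sylow 2 G} {Z : Subgroup G} {z : G}
  (c : Ctx D 𝒵 (T : Subgroup G) Z z)
include c

/-- `z ∈ R` for every nontrivial normal subgroup `R ≤ T` of `T` -/
theorem mem_of_normal {R : Subgroup G} (hR : R ≤ (T : Subgroup G)) (hn : (T : Subgroup G) ≤ normalizer (R : Set G))
    (hne : R ≠ ⊥) : z ∈ R := by
  have hn' : (R.subgroupOf (T : Subgroup G)).Normal := (normal_subgroupOf_iff_le_normalizer hR).2 hn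
  have : Fact (Nat.Prime 2) := ⟨Nat.prime_two⟩
  have hnil : Group.IsNilpotent (T : Subgroup G) := T.isPGroup'.isNilpotent
  have hne' : R.subgroupOf (T : Subgroup G) ≠ ⊥ := by
    intro h
    apply hne
    rw [subgroupOf_eq_bot] at h
    exact h.eq_bot_of_le hR
  obtain ⟨⟨y, hyR, hyc⟩, hy1⟩ := (Subgroup.ne_bot_iff_exists_ne_one).1
    (Lib.NormalAbelian.normal_inf_center_ne_bot _ hne')
  have hy1' : (y : G) ≠ 1 := fun h => hy1 (Subtype.ext (Subtype.ext h))
  have h1 := c.cen y (by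
    intro x hx
    have h2 := mem_center_iff.1 hyc ⟨x, hx⟩
    exact congrArg Subtype.val h2)
  rw [← h1.resolve_left hy1']
  exact mem_subgroupOf.1 hyR

theorem exists_inv {H : Subgroup G} (hTH : (T : Subgroup G) ≤ H) (hH : pCore 2 ↥H ≠ ⊥) :
    Inv (T : Subgroup G) z (H4.Lf.UU H) ∧ H ≤ normalizer (H4.Lf.UU H : Set G) := by
  set R : Subgroup G := (pCore 2 ↥H).map H.subtype with hR
  have hRT : R ≤ (T : Subgroup G) := map_pCore_le_sylow T hTH
  have hHR : H ≤ normalizer (R : Set G) := le_normalizer_map_pCore 2 H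
  have hRne : R ≠ ⊥ := map_pCore_ne_bot hH
  have hN : H ≤ normalizer (H4.Lf.UU H : Set G) := hHR.trans (H4.Lf.normalizer_le_omega R)
  refine ⟨⟨?_, hTH.trans hN, ?_, ?_, ?_⟩, hN⟩
  · intro x hx
    exact hRT (H4.Lf.mem_omega.1 hx).1
  · intro a ha b hb
    exact (H4.Lf.mem_omega.1 hb).2.1 a (H4.Lf.mem_omega.1 ha).1
  · intro a ha
    exact (H4.Lf.mem_omega.1 ha).2.2
  · rw [H4.Lf.mem_omega]
    exact ⟨mem_of_normal c hRT (hTH.trans hHR) hRne, fun r hr => c.comm r (hRT hr), sq_mem c.L c.hZ c.hz⟩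

/-- **The 2-local overgroups of `T`.** -/
theorem overgroup (h31 : ¬ 31 ∣ Nat.card G) {H : Subgroup G} (hTH : (T : Subgroup G) ≤ H) (hH : pCore 2 ↥H ≠ ⊥) :
    H ≤ nor Z ∨ H ≤ centralizer {z} := by
  obtain ⟨hU, hN⟩ := exists_inv c hTH hH
  rcases hU.normalizer_le c h31 with h | h
  · exact Or.inl (hN.trans h)
  · exact Or.inr (hN.trans h)

/-! ### `N(Z)` -/

omit [Finite G] c in
/-- the action on `Z` -/
noncomputable def actZ (Z : Subgroup G) : nor Z →* MulAut Z :=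
  (Z.normalizerMonoidHom).comp (inclusion nor_le_normalizer)

omit [Finite G] c in
theorem actZ_ker (Z : Subgroup G) : (actZ Z).ker = (centralizer (Z : Set G)).subgroupOf (nor Z) := by
  ext ⟨x, hx⟩
  rw [MonoidHom.mem_ker, mem_subgroupOf, mem_centralizer_iff]
  constructor
  · intro h1 y hy
    have h2 := congrArg (fun g : MulAut ↥Z => ((g ⟨y, hy⟩ : ↥Z) : G)) h1
    have h3 : x * y * x⁻¹ = y := h2
    calc y * x = x * y * x⁻¹ * x := by rw [h3]
      _ = x * y := by group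
  · intro h1
    ext ⟨y, hy⟩
    show x * y * x⁻¹ = y
    rw [← h1 y hy]; group

theorem card_actZ : Nat.card (actZ Z).range = 168 ∧ IsPGroup 2 (actZ Z).ker := by
  have h1 : Nat.card (actZ Z).ker = 2 ^ 11 := by
    rw [actZ_ker, Nat.card_congr (subgroupOfEquivOfLe (cent_le_nor Z)).toEquiv, c.card_cent]
  have h2 := (actZ Z).ker.card_mul_index
  rw [Subgroup.index_ker, h1, c.L.norm_card Z c.hZ] at h2
  refine ⟨by omega, IsPGroup.of_card h1⟩

/-- **`ℒ(G, T)` in `N(Z)`** -/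
theorem row_nor {L : Subgroup G} (hL : L ∈ calL (T : Subgroup G)) (hM : L ⊔ T ≤ nor Z) :
    L ⊔ T = nor Z ∧ L ⊔ T ≤ normalizer (L : Set G) ∧ Nat.card (L ⧸ pCore 2 L) = 168 ∧
      Nonempty ((L ⧸ pCore 2 L) ≃* Matrix.ProjectiveSpecialLinearGroup (Fin 3) (ZMod 2)) ∧
      L.subgroupOf (L ⊔ T) = perfectCore ↥(L ⊔ T) := by
  obtain ⟨h1, h2⟩ := card_actZ c
  obtain ⟨h3, h4, h5, h6⟩ := Small.row168 T hL (le_sup_right.trans hM) (le_sup_left.trans hM) (actZ Z) h2
    (by rw [h1])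
  refine ⟨?_, h3, h4, h5, h6⟩
  apply eq_of_le_of_card_ge hM
  rw [c.L.norm_card Z c.hZ]
  have h7 : 168 ∣ Nat.card ↥(L ⊔ (T : Subgroup G)) := by
    have h8 := Top.card_eq_mul (X := L)
    rw [h4] at h8
    exact (Dvd.intro _ h8.symm).trans (card_dvd_of_le le_sup_left)
  have h9 : 2 ^ 14 ∣ Nat.card ↥(L ⊔ (T : Subgroup G)) := by
    have h10 := card_dvd_of_le (le_sup_right : (T : Subgroup G) ≤ L ⊔ T)
    rwa [show Nat.card (T : Subgroup G) = 2 ^ 14 from c.hP] at h10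
  have h10 : 2 ^ 14 * 21 ∣ Nat.card ↥(L ⊔ (T : Subgroup G)) :=
    Nat.Coprime.mul_dvd_of_dvd_of_dvd (by norm_num) h9 ((by norm_num : 21 ∣ 168).trans h7)
  exact Nat.le_of_dvd Nat.card_pos h10

/-! ### `C(z)` -/

theorem commute_of_mem {x : G} (hx : x ∈ centralizer ({z} : Set G)) : Commute x z :=
  ((mem_centralizer_iff.1 hx) z rfl).symm

/-- the action of `C(z)` on `Σ(z)` -/
noncomputable def actS : centralizer ({z} : Set G) →* Equiv.Perm (Sig 𝒵 z) :=
  letI := sigAct c.L z (centralizer {z}) (fun _ hx => commute_of_mem c hx)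
  MulAction.toPermHom (centralizer ({z} : Set G)) (Sig 𝒵 z)

/-- `5` divides the order of the image -/
theorem five_dvd : 5 ∣ Nat.card (actS c).range := by
  have h5 := c.h5 Z c.hZ z c.hz c.hz1
  have htr : MulAction.IsPretransitive (actS c).range (Sig 𝒵 z) := by
    refine ⟨fun x y => ?_⟩
    obtain ⟨g, hg, hgx⟩ := trans_sig c.L c.hz1 x.2.1 x.2.2 y.2.1 y.2.2
    refine ⟨⟨_, ⟨g, mem_centralizer_iff.2 ?_⟩, rfl⟩, Subtype.ext hgx⟩
    rintro w rfl
    exact hg.eq.symm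
  have h1 := MulAction.index_stabilizer_of_transitive (actS c).range (⟨Z, c.hZ, c.hz⟩ : Sig 𝒵 z)
  rw [h5] at h1
  rw [← h1]
  exact Subgroup.index_dvd_card _

theorem actS_range_not_solvable (h : ¬ Group.IsSolvable (centralizer ({z} : Set G))) :
    ¬ Group.IsSolvable (actS c).range := by
  intro hs
  have h5 := c.h5 Z c.hZ z c.hz c.hz1
  have hcz := card_cent_z c.L c.hz1 c.hZ c.hz
  rw [h5] at hcz
  have h1 := (actS c).ker.card_mul_index
  rw [Subgroup.index_ker, hcz] at h1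
  obtain ⟨k, hk⟩ := five_dvd c
  have h2 : Nat.card (actS c).ker ∣ 2 ^ 14 * 3 ^ 1 := by
    rw [hk] at h1
    have h3 : Nat.card (actS c).ker * k = 2 ^ 14 * 3 := by
      have h4 : 5 * (Nat.card (actS c).ker * k) = 5 * (2 ^ 14 * 3) := by
        rw [← h1]; ring
      exact Nat.eq_of_mul_eq_mul_left (by norm_num) h4
    exact Dvd.intro _ h3
  have h3 := GH.C2SevenTop.solvable_of_dvd Nat.prime_two Nat.prime_three h2
  apply h
  exact Group.isSolvable_of_ker_le_range (actS c).ker.subtype (actS c).rangeRestrict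
    (by rw [MonoidHom.ker_rangeRestrict, Subgroup.range_subtype])

/-- the kernel of the action on `Σ(z)` -/
theorem actS_ker_card (h : ¬ Group.IsSolvable (centralizer ({z} : Set G))) :
    Nat.card (actS c).ker = 2 ^ 12 ∨ Nat.card (actS c).ker = 2 ^ 11 := by
  classical
  have h5 := c.h5 Z c.hZ z c.hz c.hz1
  have hcz := card_cent_z c.L c.hz1 c.hZ c.hz
  rw [h5] at hcz
  have h1 := (actS c).ker.card_mul_index
  rw [Subgroup.index_ker, hcz] at h1
  let _ : Fintype (Sig 𝒵 z) := Fintype.ofFinite _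
  have h5' : Fintype.card (Sig 𝒵 z) = 5 := by rw [← Nat.card_eq_fintype_card, h5]
  have hA := Small.alt_le h5' (actS_range_not_solvable c h)
  have h2 : Nat.card (alternatingGroup (Sig 𝒵 z)) = 60 := by
    have e : alternatingGroup (Sig 𝒵 z) ≃* alternatingGroup (Fin 5) := Equiv.altCongrHom (Fintype.equivFinOfCardEq h5')
    rw [Nat.card_congr e.toEquiv, Nat.card_eq_fintype_card, card_alternatingGroup, Fintype.card_fin]
    rfl
  have h3 : 60 ∣ Nat.card (actS c).range := h2 ▸ card_dvd_of_le hA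
  have h4 : Nat.card (actS c).range ∣ 120 := by
    have h6 : Nat.card (Equiv.Perm (Sig 𝒵 z)) = 120 := by
      rw [Nat.card_eq_fintype_card, Fintype.card_perm, h5']; rfl
    rw [← h6]
    exact card_subgroup_dvd_card _
  obtain ⟨k, hk⟩ := h3
  rw [hk] at h4 h1
  have h7 : k ∣ 2 := (Nat.mul_dvd_mul_iff_left (by norm_num : 0 < 60)).1 h4
  have h8 := Nat.le_of_dvd (by norm_num) h7
  have h9 : k ≠ 0 := by rintro rfl; norm_num at h7
  obtain rfl | rfl : k = 1 ∨ k = 2 := by omega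
  · left; omega
  · right; omega

/-- **`ℒ(G, T)` in `C(z)`** -/
theorem row_cent {L : Subgroup G} (hL : L ∈ calL (T : Subgroup G)) (hM : L ⊔ T ≤ centralizer {z}) :
    L ⊔ T = centralizer {z} ∧ L ⊔ T ≤ normalizer (L : Set G) ∧
      Nonempty ((L ⧸ pCore 2 L) ≃* alternatingGroup (Fin 5)) ∧
      L.subgroupOf (L ⊔ T) = perfectCore ↥(L ⊔ T) := by
  classical
  have h5 := c.h5 Z c.hZ z c.hz c.hz1
  let _ : Fintype (Sig 𝒵 z) := Fintype.ofFinite _
  have h5' : Fintype.card (Sig 𝒵 z) = 5 := by rw [← Nat.card_eq_fintype_card, h5]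
  have hns := Small.not_solvable_of_le hL (le_sup_left.trans hM)
  have hker : IsPGroup 2 (actS c).ker := by
    rcases actS_ker_card c hns with h | h <;> exact IsPGroup.of_card h
  obtain ⟨h1, ⟨e⟩, h3, -⟩ := Small.rowFive T hL (le_sup_right.trans hM) (le_sup_left.trans hM) h5' (actS c) hker
  refine ⟨?_, h1, ⟨e⟩, h3⟩
  apply eq_of_le_of_card_ge hM
  rw [card_cent_z c.L c.hz1 c.hZ c.hz, h5]
  have h7 : 60 ∣ Nat.card ↥(L ⊔ (T : Subgroup G)) := by
    have h8 := Top.card_eq_mul (X := L)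
    have h9 : Nat.card (L ⧸ pCore 2 L) = 60 := by
      rw [Nat.card_congr e.toEquiv, Nat.card_eq_fintype_card, card_alternatingGroup, Fintype.card_fin]
      rfl
    rw [h9] at h8
    exact (Dvd.intro _ h8.symm).trans (card_dvd_of_le le_sup_left)
  have h9 : 2 ^ 14 ∣ Nat.card ↥(L ⊔ (T : Subgroup G)) := by
    have h10 := card_dvd_of_le (le_sup_right : (T : Subgroup G) ≤ L ⊔ T)
    rwa [show Nat.card (T : Subgroup G) = 2 ^ 14 from c.hP] at h10
  have h10 : 2 ^ 14 * 15 ∣ Nat.card ↥(L ⊔ (T : Subgroup G)) :=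
    Nat.Coprime.mul_dvd_of_dvd_of_dvd (by norm_num) h9 ((by norm_num : 15 ∣ 60).trans h7)
  have h11 := Nat.le_of_dvd Nat.card_pos h10
  omega

/-! ### `ℒ_f(G, T)` -/

theorem card_cz : Nat.card (centralizer ({z} : Set G)) = 5 * (2 ^ 14 * 3) := by
  rw [card_cent_z c.L c.hz1 c.hZ c.hz, c.h5 Z c.hZ z c.hz c.hz1]

/-- `C(z)` does not normalise `Z` -/
theorem not_cz_le : ¬ centralizer ({z} : Set G) ≤ nor Z := by
  intro h
  have h1 := card_dvd_of_le h
  rw [card_cz c, c.L.norm_card Z c.hZ] at h1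
  norm_num at h1

/-- `|C(Z) ∩ C(u)| ≤ 2^8` for `u ∈ C(Z) \ Z` -/
theorem card_cent_le {u : G} (hu : u ∈ centralizer (Z : Set G)) (huZ : u ∉ Z) :
    Nat.card (centralizer (Z : Set G) ⊓ centralizer {u} : Subgroup G) ≤ 2 ^ 8 := by
  obtain ⟨π, ζ, cc⟩ := c.L.coord Z c.hZ
  have h1 := card_conj_mul (centralizer (Z : Set G)) u
  rw [c.card_cent] at h1
  have hπ : π u ≠ 0 := fun h0 => huZ ((cc.π_ker u hu).1 h0)
  have h2 : Nat.card K8 ≤ Nat.card {y : G // ∃ h ∈ centralizer (Z : Set G), h * u * h⁻¹ = y} := by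
    refine Nat.card_le_card_of_injective (fun f => ⟨u * ζ f, ?_⟩) ?_
    · obtain ⟨w, hw⟩ := R8.q1 (π u) hπ f
      obtain ⟨x, hx, rfl⟩ := cc.π_surj w
      have h3 := cc.comm u hu x hx
      rw [hw] at h3
      refine ⟨x⁻¹, inv_mem hx, ?_⟩
      rw [← h3]; group
    · intro f f' h
      exact cc.ζ_inj (mul_left_cancel (Subtype.mk.inj h))
  rw [K8.natCard] at h2
  by_contra hlt
  push Not at hlt
  have h4 := Nat.mul_le_mul h2 (Nat.succ_le_of_lt hlt)
  rw [h1] at h4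
  norm_num at h4

/-- **`⟨L, T⟩ ≰ C(z)` for `L ∈ ℒ_f(G, T)`** -/
theorem not_cent (hE : IsOfEvenCharacteristic G) {L : Subgroup G} (hL : L ∈ calLf (T : Subgroup G)) :
    ¬ L ⊔ T ≤ centralizer {z} := by
  intro hM
  obtain ⟨heq, -, -, -⟩ := row_cent c hL.1 hM
  have hTH : (T : Subgroup G) ≤ L ⊔ T := le_sup_right
  obtain ⟨hU, hN⟩ := exists_inv c hTH (H4.Lf.oTwo_ne hL.1)
  have hnc := H4.Lf.not_le_centralizer le_sup_left (H4.Lf.subnormal hL.1) (H4.Lf.odd_gen hL)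
    (charTwo_of_over hE T hTH (H4.Lf.oTwo_ne hL.1)) hL.2.2
  set H : Subgroup G := L ⊔ T with hH
  have hnor : ¬ normalizer (H4.Lf.UU H : Set G) ≤ nor Z := fun h => not_cz_le c (heq ▸ hN.trans h)
  rcases hU.cases c with h | h
  · by_cases hj : ∀ j ∈ H4.Lf.UU H, j = 1 ∨ j = z
    · apply hnc
      intro x hx
      rw [mem_centralizer_iff]
      intro j hj'
      rcases hj j hj' with rfl | rfl
      · rw [one_mul, mul_one]
      · exact ((mem_centralizer_iff.1 (hM (mem_sup_left hx))) _ rfl)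
    · push Not at hj
      obtain ⟨j, hj, hj1, hjz⟩ := hj
      apply hnor
      intro g hg
      have h1 : ∀ u ∈ H4.Lf.UU H, u ∈ cj g Z := by
        intro u hu
        rw [mem_cj]
        apply h
        have h2 := (mem_normalizer_iff.1 (inv_mem hg) u).1 hu
        rwa [inv_inv] at h2
      rw [mem_nor]
      exact eq_of_mem c.L c.hz1 (c.L.Z_conj _ c.hZ g) (h1 z hU.mem) c.hZ c.hz (h1 j hj) (h hj) hj1 hjz
  · -- `U = ⋃ Σ(z)`
    obtain ⟨g0, hg0, hgne⟩ : ∃ g ∈ normalizer (H4.Lf.UU H : Set G), cj g Z ≠ Z := by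
      by_contra hcon
      push Not at hcon
      exact hnor hcon
    have hcjU : cj g0 Z ≤ H4.Lf.UU H := by
      intro x hx
      rw [mem_cj] at hx
      have h1 := (mem_normalizer_iff.1 hg0 _).1 (h hx)
      have e : g0 * (g0⁻¹ * x * g0) * g0⁻¹ = x := by group
      rwa [e] at h1
    have hne' : ¬ H4.Lf.UU H ≤ Z := fun h' =>
      hgne (eq_of_le c.L (c.L.Z_conj _ c.hZ g0) c.hZ (hcjU.trans h'))
    obtain ⟨u, hu, huZ⟩ := SetLike.not_le_iff_exists.1 hne'
    have huc := hU.le_cent c hu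
    -- the kernel on `Σ(z)`
    set K : Subgroup G := ((actS c).ker).map (centralizer ({z} : Set G)).subtype with hK
    have hns := Small.not_solvable_of_le hL.1 (le_sup_left.trans hM)
    have hKc : 2 ^ 11 ≤ Nat.card K := by
      rw [hK, Nat.card_congr ((actS c).ker.equivMapOfInjective _ (subtype_injective _)).toEquiv.symm]
      rcases actS_ker_card c hns with h | h <;> rw [h] <;> norm_num
    have hK2 : IsPGroup 2 K := by
      have h1 : IsPGroup 2 (actS c).ker := by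
        rcases actS_ker_card c hns with h | h <;> exact IsPGroup.of_card h
      exact h1.map _
    have hKH : K ≤ H := by
      rw [heq]; exact map_subtype_le _
    have hHK : H ≤ normalizer (K : Set G) := by
      rw [heq]
      have h1 : (K.subgroupOf (centralizer ({z} : Set G))).Normal := by
        have h2 : K.subgroupOf (centralizer ({z} : Set G)) = (actS c).ker := by
          rw [hK, Subgroup.subgroupOf, Subgroup.comap_map_eq_self_of_injective (subtype_injective _)]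
        rw [h2]; infer_instance
      exact (normal_subgroupOf_iff_le_normalizer (map_subtype_le _)).1 h1
    have hKR := le_map_pCore hKH hK2 hHK
    have hKle : K ≤ (centralizer (Z : Set G) ⊓ centralizer {u} : Subgroup G) := by
      intro x hx
      have hxR := hKR hx
      refine mem_inf.2 ⟨?_, ?_⟩
      · rw [mem_centralizer_iff]
        intro y hy
        exact ((H4.Lf.mem_omega.1 (h hy)).2.1 x hxR).symm
      · rw [mem_centralizer_singleton_iff]
        exact (H4.Lf.mem_omega.1 hu).2.1 x hxR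
    have h1 := Nat.card_le_card_of_injective _ (inclusion_injective hKle)
    have h2 := card_cent_le c huc huZ
    have h3 := hKc.trans (h1.trans h2)
    norm_num at h3

/-- **`ℒ_f(G, T)`** -/
theorem row_lf (h31 : ¬ 31 ∣ Nat.card G) (hE : IsOfEvenCharacteristic G) {L : Subgroup G}
    (hL : L ∈ calLf (T : Subgroup G)) :
    L ⊔ T = nor Z ∧ L ⊔ T ≤ normalizer (L : Set G) ∧ Nat.card (L ⧸ pCore 2 L) = 168 ∧
      Nonempty ((L ⧸ pCore 2 L) ≃* Matrix.ProjectiveSpecialLinearGroup (Fin 3) (ZMod 2)) ∧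
      L ∈ calLfMax (T : Subgroup G) := by
  have hn := not_cent c hE hL
  have hM := (overgroup c h31 (le_sup_right : (T : Subgroup G) ≤ L ⊔ T) (H4.Lf.oTwo_ne hL.1)).resolve_right hn
  obtain ⟨h1, h2, h3, h4, h5⟩ := row_nor c hL.1 hM
  refine ⟨h1, h2, h3, h4, ⟨hL.1, fun M hMc hLM => ?_⟩, hL.2⟩
  have hsup : L ⊔ (T : Subgroup G) ≤ M ⊔ T := sup_le_sup_right hLM T
  have hM2 := (overgroup c h31 (le_sup_right : (T : Subgroup G) ≤ M ⊔ T) (H4.Lf.oTwo_ne hMc)).resolve_right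
    (fun h => hn (hsup.trans h))
  obtain ⟨k1, -, -, -, k5⟩ := row_nor c hMc hM2
  have e1 : (perfectCore ↥(L ⊔ (T : Subgroup G))).map (L ⊔ (T : Subgroup G)).subtype = L := by
    rw [← h5, subgroupOf_map_subtype, inf_eq_left.2 le_sup_left]
  have e2 : (perfectCore ↥(M ⊔ (T : Subgroup G))).map (M ⊔ (T : Subgroup G)).subtype = M := by
    rw [← k5, subgroupOf_map_subtype, inf_eq_left.2 le_sup_left]
  rw [← e1, ← e2, k1, h1]

end Cfsg.Agent.H5.Ru.Over
end

-- part: H5/Ru/Row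
section
/-!
# `ℒ(G, T)` and `ℒ_f(G, T)` for the Rudvalis group (helper5)

`exists_ctx`: the configuration `Ctx` for every Sylow 2-subgroup; `row`, `row_lf`.
-/

set_option autoImplicit false

namespace Cfsg.Agent.H5.Ru.Row

open Subgroup Cfsg Cfsg.Agent.Ru127.Form Cfsg.Agent.Ru127.Basic Cfsg.Agent.Ru127.Count Cfsg.Agent.H5.Ru.Loc
  Cfsg.Agent.RuB Cfsg.Agent.RuB.Core Cfsg.Agent.RuB.NormZ Cfsg.Agent.RuB.NormQ Cfsg.Agent.KFacts.Ru
open Cfsg.Agent.H5.Ru.Loc

variable {G : Type*} [Group G] [Finite G]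

omit [Finite G] in
theorem ctx_conj {D : Set G} {𝒵 : Set (Subgroup G)} {P Z : Subgroup G} {z : G} (c : Ctx D 𝒵 P Z z) (g : G) :
    Ctx D 𝒵 (P.map (MulAut.conj g).toMonoidHom) (cj g Z) (g * z * g⁻¹) where
  L := c.L
  h5 := c.h5
  P2 := c.P2.map _
  hP := by
    rw [← c.hP]
    exact (Nat.card_congr (P.equivMapOfInjective _ (MulAut.conj g).injective).toEquiv).symm
  hZ := c.L.Z_conj _ c.hZ g
  hz := by
    rw [mem_cj]
    have e : g⁻¹ * (g * z * g⁻¹) * g = z := by group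
    rw [e]; exact c.hz
  hz1 := by
    intro h
    apply c.hz1
    calc z = g⁻¹ * (g * z * g⁻¹) * g := by group
      _ = 1 := by rw [h]; group
  comm := by
    rintro _ ⟨x, hx, rfl⟩
    show g * x * g⁻¹ * (g * z * g⁻¹) = g * z * g⁻¹ * (g * x * g⁻¹)
    calc g * x * g⁻¹ * (g * z * g⁻¹) = g * (x * z) * g⁻¹ := by group
      _ = g * (z * x) * g⁻¹ := by rw [c.comm x hx]
      _ = _ := by group
  cent := by
    intro x hx
    refine ⟨g⁻¹ * x * g, c.cent ?_, by show g * (g⁻¹ * x * g) * g⁻¹ = x; group⟩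
    rw [mem_centralizer_iff] at hx ⊢
    intro y hy
    have h1 := hx (g * y * g⁻¹) (by
      show g * y * g⁻¹ ∈ cj g Z
      rw [mem_cj]
      have e : g⁻¹ * (g * y * g⁻¹) * g = y := by group
      rwa [e])
    calc y * (g⁻¹ * x * g) = g⁻¹ * ((g * y * g⁻¹) * x) * g := by group
      _ = g⁻¹ * (x * (g * y * g⁻¹)) * g := by rw [h1]
      _ = _ := by group
  nr := by
    rintro _ ⟨x, hx, rfl⟩
    show g * x * g⁻¹ ∈ Cfsg.Agent.Ru127.Form.nor (cj g Z)
    rw [mem_nor, Cfsg.Agent.Ru127.Form.cj_mul, cj_inv_cj, Cfsg.Agent.Ru127.Form.cj_mul, mem_nor.1 (c.nr x hx)]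
  cen := by
    intro a ha
    have h1 := c.cen (g⁻¹ * a * g) (by
      intro x hx
      have h2 := ha (g * x * g⁻¹) ⟨x, hx, rfl⟩
      calc x * (g⁻¹ * a * g) = g⁻¹ * ((g * x * g⁻¹) * a) * g := by group
        _ = g⁻¹ * (a * (g * x * g⁻¹)) * g := by rw [h2]
        _ = _ := by group)
    rcases h1 with h1 | h1
    · left
      calc a = g * (g⁻¹ * a * g) * g⁻¹ := by group
        _ = 1 := by rw [h1]; group
    · right
      rw [← h1]; group

theorem exists_ctx_of_core (C : Core G) (T : Sylow 2 G) :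
    ∃ (Z : Subgroup G) (z : G), Ctx (Local.DD C) (Local.ZZ C) (T : Subgroup G) Z z := by
  obtain ⟨K, hν, hμ, g0, hg0, ht⟩ := QSyl.exists_coord_norm C
  have L : LocalData (Local.DD C) (Local.ZZ C) Cfsg.Agent.Ru127.Inst.R8 := Local.localData' hν hμ hg0 ht
  have hcz := Local.cent_le K hμ
  have hz1 : C.z 1 ≠ 1 := fun h => one_ne_zero (C.z_eq_one h)
  obtain ⟨P, hPc, hPz, hPQ, hPn, hPcen⟩ := InvC.exists_sylow C
  have c0 : Ctx (Local.DD C) (Local.ZZ C) (P : Subgroup G) (Zs C) (C.z 1) :=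
    { L := L
      h5 := InvC.card_sig C
      P2 := P.isPGroup'
      hP := hPc
      hZ := Local.Zs_mem_ZZ
      hz := z_mem_Zs 1
      hz1 := hz1
      comm := hPz
      cent := fun x hx => hPQ x ((Local.mem_cent_iff K hμ).1 hx)
      nr := hPn
      cen := fun a ha => hPcen a ha }
  obtain ⟨g, hg⟩ := H4.LfTrans.exists_conj P T
  rw [hg]
  exact ⟨_, _, ctx_conj c0 g⟩

/-- **`Ru`: the members of `ℒ_f(G, T)`** -/
theorem row_lf {G : Type*} [Group G] [Finite G] (h : Spor.IsoRu G) (hE : IsOfEvenCharacteristic G) (T : Sylow 2 G)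
    {L : Subgroup G} (hL : L ∈ calLf (T : Subgroup G)) :
    (T : Subgroup G) ≤ normalizer (L : Set G) ∧
      Nonempty ((L ⧸ pCore 2 L) ≃* Matrix.ProjectiveSpecialLinearGroup (Fin 3) (ZMod 2)) ∧
      L ∈ calLfMax (T : Subgroup G) := by
  obtain ⟨t, s, w, f, d, y, hLe⟩ := exists_lets h
  have h31 : ¬ 31 ∣ Nat.card G := by rw [hLe.card]; norm_num
  obtain ⟨C, -⟩ := exists_core h
  obtain ⟨Z, z, c⟩ := exists_ctx_of_core C T
  obtain ⟨-, h1, -, h2, h3⟩ := Over.row_lf c h31 hE hL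
  exact ⟨le_sup_right.trans h1, h2, h3⟩

/-- **`Ru`: the 2-local overgroups of a Sylow 2-subgroup** lie in one of two subgroups `N(Z)`, `|Z| = 8`, and `C(z)`,
`z ∈ Z` a 2-central involution. -/
theorem exists_overgroups {G : Type*} [Group G] [Finite G] (h : Spor.IsoRu G) (T : Sylow 2 G) :
    ∃ (Z : Subgroup G) (z : G), Nat.card Z = 8 ∧ z ∈ Z ∧ z ≠ 1 ∧ Nat.card (normalizer (Z : Set G)) = 2 ^ 14 * 21 ∧
      Nat.card (centralizer ({z} : Set G)) = 2 ^ 14 * 15 ∧ (T : Subgroup G) ≤ normalizer (Z : Set G) ∧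
      (T : Subgroup G) ≤ centralizer {z} ∧
      ∀ H : Subgroup G, (T : Subgroup G) ≤ H → pCore 2 ↥H ≠ ⊥ → H ≤ normalizer (Z : Set G) ∨ H ≤ centralizer {z} := by
  obtain ⟨t, s, w, f, d, y, hLe⟩ := exists_lets h
  have h31 : ¬ 31 ∣ Nat.card G := by rw [hLe.card]; norm_num
  obtain ⟨C, -⟩ := exists_core h
  obtain ⟨Z, z, c⟩ := exists_ctx_of_core C T
  have hnn : Cfsg.Agent.Ru127.Form.nor Z = normalizer (Z : Set G) :=
    le_antisymm nor_le_normalizer (fun g hg => mem_nor_of_mem_normalizer hg)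
  refine ⟨Z, z, card_mem c.L c.hZ, c.hz, c.hz1, ?_, ?_, ?_, ?_, ?_⟩
  · rw [← hnn]; exact c.L.norm_card Z c.hZ
  · rw [Over.card_cz c]; norm_num
  · rw [← hnn]; exact c.nr
  · intro x hx
    exact mem_centralizer_singleton_iff.2 (c.comm x hx)
  · intro H hTH hH
    rcases Over.overgroup c h31 hTH hH with h1 | h1
    · exact Or.inl (h1.trans nor_le_normalizer)
    · exact Or.inr h1

end Cfsg.Agent.H5.Ru.Row
end

private theorem dce_fd93e4c05140 : _root_.True := by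
  try have : _root_.True := by simp only [_root_.Cfsg.Agent.H5.Ru.Fin.gd.eq_1]
  try have : _root_.True := by simp only [_root_.Cfsg.Agent.H5.Ru.Fin.ckJ.eq_1]
  try have : _root_.True := by simp only [_root_.Cfsg.Agent.H5.Ru.Fin.gl.eq_1]
  try have : _root_.True := by simp only [_root_.Cfsg.Agent.H5.Ru.Fin.ck.eq_1]
  exact _root_.True.intro
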